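import Groth.Agent.FinLFAnnLib.Clear
import Groth.Prelude.Def_Wider
import Groth.Prelude.Def_Canon
import Mathlib.AlgebraicGeometry.Morphisms.QuasiSeparated

/-! Annihilators of cohomology of finite locally free modules on a punctured spectrum. -/

set_option autoImplicit false
universe u
open CategoryTheory CategoryTheory.Limits TopologicalSpace Opposite AlgebraicGeometry QCohLib

namespace FinLFAnn

variable {X : Scheme.{u}}

/-- Shrink the domain of coordinates. -/
noncomputable def Coord.mono {M : X.Modules} {V : X.Opens} (c : Coord M V) {D : X.Opens} (h : D ≤ V) : Coord M D where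
  n := c.n
  π W hW t := c.π W (hW.trans h) t
  π_add W hW := c.π_add W (hW.trans h)
  π_smul W hW := c.π_smul W (hW.trans h)
  π_map hVW hW t l := c.π_map hVW (hW.trans h) t l
  b l := M.presheaf.map (homOfLE h).op (c.b l)
  eq W hW t := by
    simp only [map_map', homOfLE_comp]
    exact c.eq W (hW.trans h) t

theorem isQCoh_of_isFinLocFree {M : X.Modules} (h : FlatMod.IsFinLocFree M) : Coh.IsQCoh M := by
  choose U n hU e using h
  refine isQCoh_of_cover M U (eq_top_iff.2 fun p _ => Opens.mem_iSup.2 ⟨p, hU p⟩) fun p => ?_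
  haveI : Coh.IsQCoh (FlatMod.freeMod (↑(U p) : Scheme.{u}) (n p)) :=
    isQCoh_of_isColimit (fun _ => inferInstance) (fun _ => isQCoh_unit) (colimit.isColimit _)
  exact isQCoh_of_iso (e p).some.symm

theorem annihilates [CompactSpace X] [QuasiSeparatedSpace X] (A : Type u) [CommRing A]
    [X.Over (Spec (CommRingCat.of A))] {ι : Type u} [Finite ι] (f : ι → A) (D : ι → X.Opens)
    (hDf : ∀ j, X.basicOpen (Coh.toGlobal (X ↘ Spec (CommRingCat.of A)) (f j) : Γ(X, ⊤)) = D j)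
    (hD : ⨆ j, D j = ⊤) (hc : ∀ j, IsCompact (D j : Set X)) (M : X.Modules) [Coh.IsQCoh M]
    (c : ∀ j, Coord M (D j)) (p : ℕ) (S : Set A)
    (hO : ∀ a ∈ S, ∀ x : Coh.HH X (Coh.structureModule X) p, a • x = 0) (j₀ : ι) :
    ∃ N, ∀ a ∈ S, ∀ x : Coh.HH X M p, a • f j₀ ^ N • x = 0 := by
  set r : Γ(X, ⊤) := Coh.toGlobal (X ↘ Spec (CommRingCat.of A)) (f j₀) with hr
  obtain ⟨N, φ, s, hφs⟩ := exists_factor r M D hD hc c ((c j₀).mono (hDf j₀).le)
  refine ⟨N, fun a ha x => ?_⟩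
  have key : Coh.smulAb M (Coh.toGlobal (X ↘ Spec (CommRingCat.of A)) (f j₀ ^ N)) =
      ∑ l, (SheafOfModules.toSheaf X.ringCatSheaf).map (φ l ≫ unitHom M (s l)) := by
    rw [← Functor.map_sum]
    ext U t
    rw [Coh.smulAb_app]
    change _ = (∑ l, φ l ≫ unitHom M (s l)).app U.unop t
    have hsum : (∑ l, φ l ≫ unitHom M (s l)).app U.unop t = ∑ l, (φ l ≫ unitHom M (s l)).app U.unop t :=
      map_sum (AddMonoidHom.mk' (fun g : M ⟶ M => (g.app U.unop t : Γ(M, U.unop))) fun _ _ => rfl) _ _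
    rw [hsum]
    refine Eq.trans ?_ (hφs U.unop t).symm
    rw [map_pow, map_pow]
    rfl
  have e1 : f j₀ ^ N • x = ∑ l, Canon.HHlin A (unitHom M (s l)) p (Canon.HHlin A (φ l) p x) := by
    refine (congrArg (fun g => Sheaf.H.map g p x) key).trans ?_
    refine (map_sum (AddMonoidHom.mk' (fun g : Coh.toAb M ⟶ Coh.toAb M => Sheaf.H.map g p x)
      fun g h => Sheaf.H.map_add_apply g h x) _ _).trans (Finset.sum_congr rfl fun l _ => ?_)
    show Sheaf.H.map ((SheafOfModules.toSheaf X.ringCatSheaf).map (φ l ≫ unitHom M (s l))) p x = _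
    rw [Functor.map_comp, Sheaf.H.map_comp_apply]
    rfl
  rw [e1, Finset.smul_sum]
  refine Finset.sum_eq_zero fun l _ => ?_
  rw [← map_smul, hO a ha, map_zero]

theorem punctured (A : Type u) [CommRing A] (J I : Ideal A) (hJI : J ≤ I) (hJ : J.FG) (hI : I.FG)
    (p n : ℕ) (U : (Spec (CommRingCat.of A)).Opens) (hU : U = LocCoh.puncturedOpen A I)
    (F : (↑U : Scheme.{u}).Modules) (hF : FlatMod.IsFinLocFree F)
    (hO : ∀ a ∈ J ^ n, ∀ x : Coh.HH (↑U : Scheme.{u}) (Coh.structureModule (↑U : Scheme.{u})) p, a • x = 0) :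
    ∃ m : ℕ, ∀ a ∈ J ^ m, ∀ x : Coh.HH (↑U : Scheme.{u}) F p, a • x = 0 := by
  haveI := isQCoh_of_isFinLocFree hF
  have hcU : IsCompact (U : Set (Spec (CommRingCat.of A))) := by
    obtain ⟨G, hG⟩ := hI
    rw [hU]
    show IsCompact ((PrimeSpectrum.zeroLocus (R := A) (I : Set A))ᶜ)
    rw [← hG, PrimeSpectrum.zeroLocus_span, ← Set.biUnion_of_singleton (G : Set A),
      PrimeSpectrum.zeroLocus_iUnion₂, Set.compl_iInter₂]
    refine G.finite_toSet.isCompact_biUnion fun g _ => ?_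
    rw [← PrimeSpectrum.basicOpen_eq_zeroLocus_compl]
    exact PrimeSpectrum.isCompact_basicOpen g
  haveI : CompactSpace (↑U : Scheme.{u}) := isCompact_iff_compactSpace.mp hcU
  haveI : QuasiSeparatedSpace (↑U : Scheme.{u}) :=
    (isQuasiSeparated_iff_quasiSeparatedSpace _ U.2).mp (IsQuasiSeparated.of_quasiSeparatedSpace _)
  let π := (↑U : Scheme.{u}) ↘ Spec (CommRingCat.of A)
  let B : A → (↑U : Scheme.{u}).Opens := fun f =>
    (↑U : Scheme.{u}).basicOpen (Coh.toGlobal π f : Γ((↑U : Scheme.{u}), ⊤))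
  have hB : ∀ f, B f = U.ι ⁻¹ᵁ (PrimeSpectrum.basicOpen f) := fun f => by
    rw [← basicOpen_eq_of_affine (R := CommRingCat.of A) f, Scheme.preimage_basicOpen_top]
    rfl
  have hloc : ∀ x : (↑U : Scheme.{u}), ∃ f, x ∈ B f ∧ PrimeSpectrum.basicOpen f ≤ U ∧ Nonempty (Coord F (B f)) := by
    intro x
    obtain ⟨V, m, hxV, ⟨e⟩⟩ := hF x
    have hmem : U.ι x ∈ U.ι ''ᵁ V := ⟨x, hxV, rfl⟩
    obtain ⟨_, ⟨f, rfl⟩, hxf, hfV⟩ := PrimeSpectrum.isTopologicalBasis_basic_opens.exists_subset_of_mem_open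
      hmem (U.ι ''ᵁ V).isOpen
    refine ⟨f, (hB f).ge hxf, fun y hy => U.ι_image_le V (hfV hy), ?_⟩
    obtain ⟨c⟩ := exists_coord e
    refine ⟨c.mono fun y hy => ?_⟩
    obtain ⟨z, hz, hzy⟩ := hfV ((hB f).le hy)
    exact U.ι.isOpenEmbedding.injective hzy ▸ hz
  choose f hf hfU hcf using hloc
  obtain ⟨t, ht⟩ := isCompact_univ.elim_finite_subcover (fun x => (B (f x) : Set (↑U : Scheme.{u})))
    (fun x => (B (f x)).isOpen) fun x _ => Set.mem_iUnion.2 ⟨x, hf x⟩
  let D : {z // z ∈ t} → (↑U : Scheme.{u}).Opens := fun j => B (f j.1)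
  have hD : ⨆ j, D j = ⊤ := eq_top_iff.2 fun x _ => by
    obtain ⟨y, hy, hxy⟩ := Set.mem_iUnion₂.1 (ht (Set.mem_univ x))
    exact Opens.mem_iSup.2 ⟨⟨y, hy⟩, hxy⟩
  have hc : ∀ j, IsCompact (D j : Set (↑U : Scheme.{u})) := fun j => by
    rw [show D j = _ from hB (f j.1)]
    refine U.ι.isOpenEmbedding.isInducing.isCompact_preimage' (PrimeSpectrum.isCompact_basicOpen _) ?_
    intro y hy
    exact ⟨⟨y, hfU j.1 hy⟩, rfl⟩
  choose N hN using fun j₀ : {z // z ∈ t} =>
    annihilates A (fun j : {z // z ∈ t} => f j.1) D (fun _ => rfl) hD hc F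
      (fun j => (hcf j.1).some) p (J ^ n : Ideal A) hO j₀
  let T : Ideal A := Ideal.span (Set.range fun j : {z // z ∈ t} => f j.1 ^ N j)
  have hrad : J ≤ T.radical := by
    refine hJI.trans ?_
    rw [← PrimeSpectrum.vanishingIdeal_zeroLocus_eq_radical]
    refine (PrimeSpectrum.subset_zeroLocus_iff_le_vanishingIdeal _ _).1 fun P hP => ?_
    by_contra hPI
    replace hPI : P ∈ (U : Set (Spec (CommRingCat.of A))) := by rw [hU]; exact hPI
    obtain ⟨y, hy, hxy⟩ := Set.mem_iUnion₂.1 (ht (Set.mem_univ (⟨P, hPI⟩ : U)))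
    have h1 : P ∈ PrimeSpectrum.basicOpen (f y) := (hB (f y)).le hxy
    exact h1 (P.2.mem_of_pow_mem (N ⟨y, hy⟩) (hP (Ideal.subset_span ⟨⟨y, hy⟩, rfl⟩)))
  obtain ⟨k, hk⟩ := Ideal.exists_pow_le_of_le_radical_of_fg hrad hJ
  refine ⟨n + k, fun a ha x => ?_⟩
  rw [pow_add] at ha
  refine Submodule.mul_induction_on ha (fun c hc' d hd => ?_) (fun y z hy hz => by rw [add_smul, hy, hz, add_zero])
  ·
    have hd' : d ∈ T := hk hd
    suffices key : ∀ d ∈ T, ∀ c ∈ J ^ n, (c * d) • x = 0 from key d hd' c hc'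
    intro d hd''
    induction hd'' using Submodule.span_induction with
    | mem z hz =>
      obtain ⟨j, rfl⟩ := hz
      intro c hc''
      rw [mul_smul]
      exact hN j c hc'' x
    | zero => intro c _; rw [mul_zero, zero_smul]
    | add y z _ _ hy hz => intro c hc''; rw [mul_add, add_smul, hy c hc'', hz c hc'', add_zero]
    | smul b y _ hy =>
      intro c hc''
      rw [smul_eq_mul, ← mul_assoc]
      exact hy (c * b) (Ideal.mul_mem_right b _ hc'')

end FinLFAnn
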