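import Groth.Agent.QCohLib.QcqsSections
import Groth.Agent.QCohLib.FinType
import Groth.Agent.QCohLib.Gen
import Groth.Agent.QCohLib.QCoh
import Groth.Agent.QCohLib.Local
import Groth.Prelude.Def_FlatMod2

/-! Coordinates of finite locally free modules; clearing denominators. -/

set_option autoImplicit false
universe u
open CategoryTheory CategoryTheory.Limits TopologicalSpace Opposite AlgebraicGeometry QCohLib

namespace FinLFAnn

variable {X : Scheme.{u}}

/-- Coordinates of a module over an open. -/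
structure Coord (M : X.Modules) (D : X.Opens) where
  n : ℕ
  π : ∀ (W : X.Opens), W ≤ D → Γ(M, W) → Fin n → Γ(X, W)
  π_add : ∀ W h s t l, π W h (s + t) l = π W h s l + π W h t l
  π_smul : ∀ W h r t l, π W h (r • t) l = r * π W h t l
  π_map : ∀ {W V : X.Opens} (h : V ≤ W) (hW : W ≤ D) t l,
    X.presheaf.map (homOfLE h).op (π W hW t l) = π V (h.trans hW) (M.presheaf.map (homOfLE h).op t) l
  b : Fin n → Γ(M, D)
  eq : ∀ W h t, t = ∑ l, π W h t l • M.presheaf.map (homOfLE h).op (b l)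

theorem Coord.π_sum {M : X.Modules} {D : X.Opens} (c : Coord M D) {W : X.Opens} (h : W ≤ D)
    {ι : Type} (s : Finset ι) (f : ι → Γ(M, W)) (l : Fin c.n) :
    c.π W h (∑ i ∈ s, f i) l = ∑ i ∈ s, c.π W h (f i) l :=
  map_sum (AddMonoidHom.mk' (fun t => c.π W h t l) fun s t => c.π_add W h s t l) f s

theorem Coord.π_zero {M : X.Modules} {D : X.Opens} (c : Coord M D) {W : X.Opens} (h : W ≤ D) (l : Fin c.n) :
    c.π W h 0 l = 0 := by
  have := c.π_smul W h 0 0 l
  rwa [zero_smul, zero_mul] at this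

theorem free_decomp (Y : Scheme.{u}) (n : ℕ) :
    ∃ p : Fin n → (FlatMod.freeMod Y n ⟶ Coh.structureModule Y),
      ∑ l, p l ≫ Sigma.ι (fun _ : Fin n => Coh.structureModule Y) l = 𝟙 (FlatMod.freeMod Y n) := by
  classical
  refine ⟨fun l => Sigma.desc fun j => if j = l then 𝟙 _ else 0, Sigma.hom_ext _ _ fun j => ?_⟩
  rw [Preadditive.comp_sum, Finset.sum_eq_single j]
  · erw [Sigma.ι_desc_assoc, if_pos rfl, Category.id_comp]
  · intro l _ hl
    erw [Sigma.ι_desc_assoc, if_neg (Ne.symm hl), zero_comp]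
  · intro h; exact absurd (Finset.mem_univ j) h

/-- A morphism `M|_D ⟶ O_D` on sections of `M`. -/
noncomputable def secMap {M : X.Modules} {D : X.Opens}
    (α : M.restrict D.ι ⟶ Coh.structureModule (↑D : Scheme.{u})) (V : (↑D : Scheme.{u}).Opens)
    (x : Γ(M, D.ι ''ᵁ V)) : Γ(X, D.ι ''ᵁ V) :=
  (D.ι.appIso V).inv (α.app V ((M.restrictAppIso D.ι V).inv x))

theorem secMap_add {M : X.Modules} {D : X.Opens}
    (α : M.restrict D.ι ⟶ Coh.structureModule (↑D : Scheme.{u})) (V : (↑D : Scheme.{u}).Opens)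
    (x y : Γ(M, D.ι ''ᵁ V)) : secMap α V (x + y) = secMap α V x + secMap α V y := by
  unfold secMap
  rw [map_add, map_add]
  exact map_add (D.ι.appIso V).inv.hom _ _

theorem secMap_smul {M : X.Modules} {D : X.Opens}
    (α : M.restrict D.ι ⟶ Coh.structureModule (↑D : Scheme.{u})) (V : (↑D : Scheme.{u}).Opens)
    (r : Γ(X, D.ι ''ᵁ V)) (x : Γ(M, D.ι ''ᵁ V)) : secMap α V (r • x) = r * secMap α V x := by
  unfold secMap
  refine (congrArg (fun z => (D.ι.appIso V).inv (α.app V z))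
    (Scheme.Modules.smul_restrictAppIso_inv_apply D.ι M V r x)).trans ?_
  refine (congrArg (fun z => (D.ι.appIso V).inv z)
    (app_smul α V ((D.ι.appIso V).hom r) ((M.restrictAppIso D.ι V).inv x))).trans ?_
  refine (map_mul (D.ι.appIso V).inv.hom _ _).trans ?_
  exact congrArg (· * _) (Iso.hom_inv_id_apply (D.ι.appIso V) r)

theorem secMap_map {M : X.Modules} {D : X.Opens}
    (α : M.restrict D.ι ⟶ Coh.structureModule (↑D : Scheme.{u})) {V W : (↑D : Scheme.{u}).Opens} (i : W ≤ V)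
    (x : Γ(M, D.ι ''ᵁ V)) :
    X.presheaf.map (homOfLE (D.ι.image_mono i)).op (secMap α V x) =
      secMap α W (M.presheaf.map (homOfLE (D.ι.image_mono i)).op x) := by
  unfold secMap
  have h2 := app_map α (homOfLE i) ((M.restrictAppIso D.ι V).inv x)
  refine Eq.trans ?_ (congrArg (fun z => (D.ι.appIso W).inv z) h2).symm
  simp only [Scheme.Opens.ι_appIso]
  rfl

theorem secMap_comp {M : X.Modules} {D : X.Opens}
    (α : M.restrict D.ι ⟶ Coh.structureModule (↑D : Scheme.{u}))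
    (β : Coh.structureModule (↑D : Scheme.{u}) ⟶ M.restrict D.ι)
    (V : (↑D : Scheme.{u}).Opens) (x : Γ(M, D.ι ''ᵁ V)) :
    (M.restrictAppIso D.ι V).hom ((α ≫ β).app V ((M.restrictAppIso D.ι V).inv x)) =
      secMap α V x • M.presheaf.map (homOfLE (D.ι.image_mono (le_top : V ≤ ⊤))).op
        ((M.restrictAppIso D.ι ⊤).hom (β.app ⊤ (1 : Γ((↑D : Scheme.{u}), ⊤)))) := by
  unfold secMap
  set z := α.app V ((M.restrictAppIso D.ι V).inv x) with hz
  have h1 : β.app V z = (show Γ((↑D : Scheme.{u}), V) from z) •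
      (M.restrict D.ι).presheaf.map (homOfLE (le_top : V ≤ ⊤)).op (β.app ⊤ (1 : Γ((↑D : Scheme.{u}), ⊤))) := by
    rw [← app_map, ← app_smul]
    refine congrArg (β.app V) ?_
    refine (((congrArg ((show Γ((↑D : Scheme.{u}), V) from z) * ·)
      (map_one ((↑D : Scheme.{u}).presheaf.map (homOfLE (le_top : V ≤ ⊤)).op).hom)).trans (mul_one _))).symm
  refine (congrArg (fun w => (M.restrictAppIso D.ι V).hom w) (show (α ≫ β).app V ((M.restrictAppIso D.ι V).inv x) = _ from h1)).trans ?_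
  exact Scheme.Modules.smul_restrictAppIso_hom_apply D.ι M V _ _

theorem exists_coord {M : X.Modules} {D : X.Opens} {n : ℕ}
    (e : M.restrict D.ι ≅ FlatMod.freeMod (↑D) n) : Nonempty (Coord M D) := by
  obtain ⟨p, hp⟩ := free_decomp (↑D : Scheme.{u}) n
  obtain ⟨α, β, hid⟩ : ∃ (α : Fin n → (M.restrict D.ι ⟶ Coh.structureModule (↑D : Scheme.{u})))
      (β : Fin n → (Coh.structureModule (↑D : Scheme.{u}) ⟶ M.restrict D.ι)),
      ∑ l, α l ≫ β l = 𝟙 (M.restrict D.ι) := by
    refine ⟨fun l => e.hom ≫ p l, fun l => Sigma.ι (fun _ : Fin n => Coh.structureModule (↑D : Scheme.{u})) l ≫ e.inv, ?_⟩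
    have : ∀ l, (e.hom ≫ p l) ≫ (Sigma.ι (fun _ : Fin n => Coh.structureModule (↑D : Scheme.{u})) l ≫ e.inv) =
        e.hom ≫ (p l ≫ Sigma.ι (fun _ : Fin n => Coh.structureModule (↑D : Scheme.{u})) l) ≫ e.inv :=
      fun l => by simp only [Category.assoc]
    rw [Finset.sum_congr rfl fun l _ => this l, ← Preadditive.comp_sum, ← Preadditive.sum_comp, hp,
      Category.id_comp, Iso.hom_inv_id]
  have hle1 : ∀ {W : X.Opens}, W ≤ D → W ≤ D.ι ''ᵁ (D.ι ⁻¹ᵁ W) := fun {W} h x hx => ⟨⟨x, h hx⟩, hx, rfl⟩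
  have hle2 : ∀ (W : X.Opens), D.ι ''ᵁ (D.ι ⁻¹ᵁ W) ≤ W := fun W => D.ι.image_preimage_le W
  have htop : D ≤ D.ι ''ᵁ ⊤ := fun x hx => ⟨⟨x, hx⟩, trivial, rfl⟩
  refine ⟨⟨n, fun W h t l => X.presheaf.map (homOfLE (hle1 h)).op
    (secMap (α l) (D.ι ⁻¹ᵁ W) (M.presheaf.map (homOfLE (hle2 W)).op t)), ?_, ?_, ?_,
    fun l => M.presheaf.map (homOfLE htop).op ((M.restrictAppIso D.ι ⊤).hom ((β l).app ⊤ (1 : Γ((↑D : Scheme.{u}), ⊤)))), ?_⟩⟩
  · intro W h s t l
    rw [map_add, secMap_add, map_add]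
  · intro W h r t l
    rw [map_smul', secMap_smul, map_mul, ringMap_map']
    congr 1
    exact congrArg (fun f => X.presheaf.map f r) (Subsingleton.elim _ (𝟙 _)) |>.trans (by simp)
  · intro W V h hW t l
    have hm : M.presheaf.map (homOfLE (hle2 V)).op (M.presheaf.map (homOfLE h).op t) =
        M.presheaf.map (homOfLE (D.ι.image_mono (D.ι.preimage_mono h))).op (M.presheaf.map (homOfLE (hle2 W)).op t) := by
      rw [map_map', map_map']; rfl
    rw [hm, ← secMap_map (α l) (D.ι.preimage_mono h), ringMap_map', ringMap_map']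
    rfl
  · intro W h t
    let E : (M.restrict D.ι ⟶ M.restrict D.ι) →+ Γ(M, W) := AddMonoidHom.mk' (fun φ =>
      M.presheaf.map (homOfLE (hle1 h)).op ((M.restrictAppIso D.ι (D.ι ⁻¹ᵁ W)).hom (φ.app (D.ι ⁻¹ᵁ W) ((M.restrictAppIso D.ι (D.ι ⁻¹ᵁ W)).inv (M.presheaf.map (homOfLE (hle2 W)).op t)))))
      fun φ ψ => by
        rw [← map_add, ← map_add]
        rfl
    have h0 := congrArg E hid
    rw [map_sum] at h0
    refine Eq.trans ?_ (h0.symm.trans ?_)
    · refine Eq.trans ?_ (congrArg (M.presheaf.map (homOfLE (hle1 h)).op) (Iso.inv_hom_id_apply (M.restrictAppIso D.ι (D.ι ⁻¹ᵁ W)) (M.presheaf.map (homOfLE (hle2 W)).op t))).symm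
      rw [map_map']
      exact (congrArg (fun f => M.presheaf.map f t) (Subsingleton.elim _ (𝟙 _)) |>.trans (by simp)).symm
    · refine Finset.sum_congr rfl fun l _ => ?_
      show M.presheaf.map (homOfLE (hle1 h)).op ((M.restrictAppIso D.ι (D.ι ⁻¹ᵁ W)).hom ((α l ≫ β l).app (D.ι ⁻¹ᵁ W) ((M.restrictAppIso D.ι (D.ι ⁻¹ᵁ W)).inv (M.presheaf.map (homOfLE (hle2 W)).op t)))) = _
      rw [secMap_comp, map_smul', map_map', map_map']
      rfl

variable {M : X.Modules} {ι : Type u} (D : ι → X.Opens)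

/-- Glue local linear forms into a morphism to `O`. -/
theorem exists_hom (hD : ⨆ j, D j = ⊤) (c : ∀ j, Coord M (D j)) (β : ∀ j, Fin (c j).n → Γ(X, D j))
    (hβ : ∀ j j' m, X.presheaf.map (homOfLE (inf_le_right : D j ⊓ D j' ≤ D j')).op (β j' m) =
      ∑ l, (c j).π (D j ⊓ D j') inf_le_left (M.presheaf.map (homOfLE inf_le_right).op ((c j').b m)) l *
        X.presheaf.map (homOfLE (inf_le_left : D j ⊓ D j' ≤ D j)).op (β j l)) :
    ∃ φ : M ⟶ Coh.structureModule X, ∀ (j : ι) (W : X.Opens) (h : W ≤ D j) (t : Γ(M, W)),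
      φ.app W t = ∑ l, (c j).π W h t l * X.presheaf.map (homOfLE h).op (β j l) := by
  let L : ∀ (j : ι) (W : X.Opens), W ≤ D j → Γ(M, W) → Γ(X, W) := fun j W h t =>
    ∑ l, (c j).π W h t l * X.presheaf.map (homOfLE h).op (β j l)
  have Ladd : ∀ j W h s t, L j W h (s + t) = L j W h s + L j W h t := fun j W h s t => by
    simp only [L, (c j).π_add, add_mul, Finset.sum_add_distrib]
  have Lsmul : ∀ j W h (r : Γ(X, W)) t, L j W h (r • t) = r * L j W h t := fun j W h r t => by
    simp only [L, (c j).π_smul, Finset.mul_sum, mul_assoc]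
  have Lmap : ∀ j {W V : X.Opens} (i : V ≤ W) (h : W ≤ D j) t,
      X.presheaf.map (homOfLE i).op (L j W h t) = L j V (i.trans h) (M.presheaf.map (homOfLE i).op t) := by
    intro j W V i h t
    simp only [L, map_sum, map_mul, (c j).π_map, ringMap_map', homOfLE_comp]
  have Lagree : ∀ j j' W (h : W ≤ D j) (h' : W ≤ D j') t, L j W h t = L j' W h' t := by
    intro j j' W h h' t
    show ∑ l, (c j).π W h t l * _ = ∑ m, (c j').π W h' t m * _
    have hb : ∀ m, X.presheaf.map (homOfLE h').op (β j' m) =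
        ∑ l, (c j).π W h (M.presheaf.map (homOfLE h').op ((c j').b m)) l * X.presheaf.map (homOfLE h).op (β j l) := by
      intro m
      have := congrArg (X.presheaf.map (homOfLE (le_inf h h')).op) (hβ j j' m)
      simp only [map_sum, map_mul, (c j).π_map, ringMap_map', homOfLE_comp, map_map'] at this
      exact this
    conv_lhs => rw [(c j').eq W h' t]
    simp only [hb, (c j).π_sum, (c j).π_smul, Finset.sum_mul, Finset.mul_sum, mul_assoc]
    exact Finset.sum_comm
  let F : TopCat.Sheaf AddCommGrpCat X := (toAbF X).obj (Coh.structureModule X)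
  have hcov : ∀ W : X.Opens, W ≤ ⨆ j, W ⊓ D j := fun W x hx => by
    obtain ⟨j, hj⟩ := Opens.mem_iSup.1 (hD.ge (Opens.mem_top x))
    exact Opens.mem_iSup.2 ⟨j, hx, hj⟩
  have hex : ∀ (W : X.Opens) (t : Γ(M, W)), ∃! y : Γ(X, W), ∀ j, X.presheaf.map (homOfLE (inf_le_left : W ⊓ D j ≤ W)).op y =
      L j (W ⊓ D j) inf_le_right (M.presheaf.map (homOfLE inf_le_left).op t) := by
    intro W t
    refine TopCat.Sheaf.existsUnique_gluing' F (fun j => W ⊓ D j) W (fun j => homOfLE inf_le_left) (hcov W)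
      (fun j => L j (W ⊓ D j) inf_le_right (M.presheaf.map (homOfLE inf_le_left).op t)) fun j j' => ?_
    refine Eq.trans ((Lmap j inf_le_left inf_le_right _).trans ?_) (Lmap j' inf_le_right inf_le_right _).symm
    refine (Lagree j j' _ _ (inf_le_right.trans inf_le_right) _).trans ?_
    rw [map_map', map_map']
    rfl
  choose f hf huniq using hex
  have funiq : ∀ W t y, (∀ j, X.presheaf.map (homOfLE (inf_le_left : W ⊓ D j ≤ W)).op y =
      L j (W ⊓ D j) inf_le_right (M.presheaf.map (homOfLE inf_le_left).op t)) → y = f W t := fun W t y hy => huniq W t y hy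
  let φ : M ⟶ Coh.structureModule X := ⟨PresheafOfModules.homMk
    { app := fun U => AddCommGrpCat.ofHom (AddMonoidHom.mk' (fun t => f U.unop t) fun s t => (funiq U.unop (s + t) _ fun j => by
        refine (map_add (X.presheaf.map _).hom (f U.unop s) (f U.unop t)).trans ?_
        refine (congrArg₂ (· + ·) (hf U.unop s j) (hf U.unop t j)).trans ?_
        refine Eq.trans ?_ (congrArg (L j _ _) (map_add (M.presheaf.map _).hom (show Γ(M, U.unop) from s) (show Γ(M, U.unop) from t))).symm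
        rw [Ladd]).symm)
      naturality := fun U V i => by
        refine ConcreteCategory.hom_ext _ _ fun t => ?_
        refine (funiq V.unop _ _ fun j => ?_).symm
        have h := congrArg (X.presheaf.map (homOfLE (inf_le_inf_right (D j) (leOfHom i.unop))).op) (hf U.unop t j)
        rw [Lmap, map_map', ringMap_map'] at h
        refine Eq.trans ?_ (h.trans ?_)
        · exact ringMap_map' _ _ _
        · exact congrArg (L j _ _) (map_map' M (homOfLE inf_le_left) i.unop t).symm }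
    fun U r t => (funiq U.unop (r • t) _ fun j => by
      show X.presheaf.map _ ((show Γ(X, U.unop) from r) * f U.unop t) = _
      rw [map_mul, hf]
      refine Eq.trans ?_ (congrArg (L j _ _) (map_smul' M (homOfLE inf_le_left) (show Γ(X, U.unop) from r) t)).symm
      rw [Lsmul]).symm⟩
  refine ⟨φ, fun j W h t => ?_⟩
  show f W t = L j W h t
  refine (funiq W t _ fun j' => ?_).symm
  rw [Lmap]
  exact Lagree _ _ _ _ _ _


section clear

variable {X : Scheme.{u}}

/-- `a` restricted. -/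
noncomputable abbrev rs (a : Γ(X, ⊤)) (W : X.Opens) : Γ(X, W) := X.presheaf.map (homOfLE (le_top : W ≤ ⊤)).op a

theorem rs_map (a : Γ(X, ⊤)) {W V : X.Opens} (h : V ≤ W) : X.presheaf.map (homOfLE h).op (rs a W) = rs a V := by
  simp only [rs, ringMap_map', homOfLE_comp]

variable [CompactSpace X] [QuasiSeparatedSpace X] (a : Γ(X, ⊤))

theorem qs_top : IsQuasiSeparated ((⊤ : X.Opens) : Set X) := by
  intro U V _ hU hU' _ hV hV'
  exact QuasiSeparatedSpace.inter_isCompact U V hU hU' hV hV'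

theorem extend_fun (D : X.Opens) (hD : IsCompact (D : Set X)) (y : Γ(X, D ⊓ X.basicOpen a)) :
    ∃ n : ℕ, ∀ k, n ≤ k → ∃ t : Γ(X, D), X.presheaf.map (homOfLE (inf_le_left : D ⊓ X.basicOpen a ≤ D)).op t =
      rs a (D ⊓ X.basicOpen a) ^ k * y := by
  haveI := isQCoh_unit (X := X)
  obtain ⟨n, t, ht⟩ := exists_pow_smul_extend (M := Coh.structureModule X) qs_top a D hD le_top y
  refine ⟨n, fun k hk => ⟨rs a D ^ (k - n) * (show Γ(X, D) from t), ?_⟩⟩
  have ht' : X.presheaf.map (homOfLE (inf_le_left : D ⊓ X.basicOpen a ≤ D)).op (show Γ(X, D) from t) = rs a (D ⊓ X.basicOpen a) ^ n * y := ht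
  rw [map_mul, map_pow, rs_map, ht', ← mul_assoc, ← pow_add, Nat.sub_add_cancel hk]

theorem kill (M : X.Modules) [Coh.IsQCoh M] (S : X.Opens) (hS : IsCompact (S : Set X)) (t : Γ(M, S))
    (ht : M.presheaf.map (homOfLE (inf_le_left : S ⊓ X.basicOpen a ≤ S)).op t = 0) :
    ∃ n : ℕ, ∀ k, n ≤ k → rs a S ^ k • t = 0 := by
  obtain ⟨n, hn⟩ := exists_pow_smul_eq_zero (M := M) a S hS le_top t ht
  exact ⟨n, fun k hk => by rw [← Nat.sub_add_cancel hk, pow_add, mul_smul, hn, smul_zero]⟩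

omit [CompactSpace X] [QuasiSeparatedSpace X] in
theorem exists_uniform {κ : Type u} [Finite κ] (P : κ → ℕ → Prop) (h : ∀ i, ∃ n, ∀ k, n ≤ k → P i k) :
    ∃ N, ∀ i, P i N := by
  cases nonempty_fintype κ
  choose n hn using h
  exact ⟨Finset.univ.sup n, fun i => hn i _ (Finset.le_sup (Finset.mem_univ i))⟩

variable (M : X.Modules) [Coh.IsQCoh M] {ι : Type u} [Finite ι] (D : ι → X.Opens)

theorem exists_factor (hD : ⨆ j, D j = ⊤) (hc : ∀ j, IsCompact (D j : Set X)) (c : ∀ j, Coord M (D j))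
    (c0 : Coord M (X.basicOpen a)) :
    ∃ (N : ℕ) (φ : Fin c0.n → (M ⟶ Coh.structureModule X)) (s : Fin c0.n → Γ(M, ⊤)),
      ∀ (W : X.Opens) (t : Γ(M, W)),
        ∑ l, (show Γ(X, W) from (φ l).app W t) • M.presheaf.map (homOfLE (le_top : W ≤ ⊤)).op (s l) =
          rs a W ^ N • t := by
  have hcc : ∀ j j', IsCompact ((D j ⊓ D j' : X.Opens) : Set X) := fun j j' =>
    QuasiSeparatedSpace.inter_isCompact _ _ (D j).isOpen (hc j) (D j').isOpen (hc j')
  -- coordinates of the local bases over `D(a)`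
  let y : ∀ j, Fin (c j).n → Fin c0.n → Γ(X, D j ⊓ X.basicOpen a) := fun j m l =>
    c0.π (D j ⊓ X.basicOpen a) inf_le_right (M.presheaf.map (homOfLE inf_le_left).op ((c j).b m)) l
  obtain ⟨N₁, hN₁⟩ := exists_uniform (κ := Σ j : ι, ULift.{u} (Fin (c j).n × Fin c0.n))
    (fun i k => ∃ t : Γ(X, D i.1), X.presheaf.map (homOfLE inf_le_left).op t =
      rs a _ ^ k * y i.1 i.2.down.1 i.2.down.2) fun i => extend_fun a _ (hc i.1) _
  choose β hβ using fun j m l => hN₁ ⟨j, ⟨m, l⟩⟩
  -- cocycle up to torsion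
  haveI := isQCoh_unit (X := X)
  obtain ⟨N₂, hN₂⟩ := exists_uniform (κ := Σ (j : ι) (j' : ι), ULift.{u} (Fin (c j').n × Fin c0.n))
    (fun i k => rs a (D i.1 ⊓ D i.2.1) ^ k *
      (X.presheaf.map (homOfLE (inf_le_right : D i.1 ⊓ D i.2.1 ≤ D i.2.1)).op (β i.2.1 i.2.2.down.1 i.2.2.down.2) -
        ∑ m', (c i.1).π (D i.1 ⊓ D i.2.1) inf_le_left
          (M.presheaf.map (homOfLE inf_le_right).op ((c i.2.1).b i.2.2.down.1)) m' *
          X.presheaf.map (homOfLE inf_le_left).op (β i.1 m' i.2.2.down.2)) = 0) fun i => by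
    refine kill a (Coh.structureModule X) (D i.1 ⊓ D i.2.1) (hcc _ _) _ ?_
    obtain ⟨j, j', ⟨m, l⟩⟩ := i
    have e1 : (D j ⊓ D j') ⊓ X.basicOpen a ≤ D j ⊓ X.basicOpen a := inf_le_inf_right _ inf_le_left
    have e2 : (D j ⊓ D j') ⊓ X.basicOpen a ≤ D j' ⊓ X.basicOpen a := inf_le_inf_right _ inf_le_right
    change X.presheaf.map (homOfLE inf_le_left).op (X.presheaf.map (homOfLE inf_le_right).op (β j' m l) -
        ∑ m', (c j).π (D j ⊓ D j') inf_le_left (M.presheaf.map (homOfLE inf_le_right).op ((c j').b m)) m' *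
          X.presheaf.map (homOfLE inf_le_left).op (β j m' l)) = 0
    have h2 := congrArg (X.presheaf.map (homOfLE e2).op) (hβ j' m l)
    have h1 : ∀ m', X.presheaf.map (homOfLE ((inf_le_left : (D j ⊓ D j') ⊓ X.basicOpen a ≤ D j ⊓ D j').trans inf_le_left)).op (β j m' l) =
        rs a _ ^ N₁ * c0.π _ inf_le_right (M.presheaf.map (homOfLE ((inf_le_left : (D j ⊓ D j') ⊓ X.basicOpen a ≤ D j ⊓ D j').trans inf_le_left)).op ((c j).b m')) l := by
      intro m'
      have h := congrArg (X.presheaf.map (homOfLE e1).op) (hβ j m' l)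
      simpa only [y, map_mul, map_pow, rs_map, c0.π_map, ringMap_map', map_map', homOfLE_comp] using h
    simp only [y, map_mul, map_pow, rs_map, c0.π_map, ringMap_map', map_map', homOfLE_comp] at h2
    rw [map_sub, sub_eq_zero, map_sum, ringMap_map', homOfLE_comp, h2]
    simp only [map_mul, (c j).π_map, ringMap_map', map_map', homOfLE_comp, h1, mul_left_comm _ (rs a _ ^ N₁),
      ← Finset.mul_sum]
    refine congrArg _ ?_
    conv_lhs => rw [(c j).eq _ (inf_le_left.trans inf_le_left)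
      (M.presheaf.map (homOfLE ((inf_le_left : (D j ⊓ D j') ⊓ X.basicOpen a ≤ D j ⊓ D j').trans inf_le_right)).op ((c j').b m))]
    simp only [c0.π_sum, c0.π_smul]
  have hcocycle : ∀ l j j' m,
      X.presheaf.map (homOfLE (inf_le_right : D j ⊓ D j' ≤ D j')).op (rs a (D j') ^ N₂ * β j' m l) =
      ∑ m', (c j).π (D j ⊓ D j') inf_le_left (M.presheaf.map (homOfLE inf_le_right).op ((c j').b m)) m' *
        X.presheaf.map (homOfLE (inf_le_left : D j ⊓ D j' ≤ D j)).op (rs a (D j) ^ N₂ * β j m' l) := by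
    intro l j j' m
    have h := hN₂ ⟨j, j', ⟨m, l⟩⟩
    rw [mul_sub, sub_eq_zero, Finset.mul_sum] at h
    simp only [map_mul, map_pow, rs_map, mul_left_comm _ (rs a _ ^ N₂)]
    exact h
  choose φ hφ using fun l => exists_hom D hD c (fun j m => rs a (D j) ^ N₂ * β j m l) (hcocycle l)
  -- global extensions of the basis over `D(a)`
  obtain ⟨N₃, hN₃⟩ := exists_uniform (κ := ULift.{u} (Fin c0.n))
    (fun l k => ∃ t : Γ(M, ⊤), M.presheaf.map (homOfLE (le_top : X.basicOpen a ≤ ⊤)).op t =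
      rs a (X.basicOpen a) ^ k • c0.b l.down) fun l => by
    obtain ⟨n, t, ht⟩ := exists_pow_smul_extend (M := M) qs_top a ⊤ isCompact_univ le_rfl
      (M.presheaf.map (homOfLE (inf_le_right : ⊤ ⊓ X.basicOpen a ≤ X.basicOpen a)).op (c0.b l.down))
    refine ⟨n, fun k hk => ⟨a ^ (k - n) • t, ?_⟩⟩
    have h := congrArg (M.presheaf.map (homOfLE (le_inf le_top le_rfl : X.basicOpen a ≤ ⊤ ⊓ X.basicOpen a)).op) ht
    simp only [map_map', map_smul', map_pow, ringMap_map', homOfLE_comp] at h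
    rw [show M.presheaf.map (homOfLE (le_refl (X.basicOpen a))).op (c0.b l.down) = c0.b l.down by simp] at h
    rw [map_smul', map_pow, h, ← mul_smul, ← pow_add, Nat.sub_add_cancel hk]
  choose s hs using fun l => hN₃ ⟨l⟩
  -- the difference is torsion on each basis element
  obtain ⟨N₄, hN₄⟩ := exists_uniform (κ := Σ j : ι, ULift.{u} (Fin (c j).n))
    (fun i k => rs a (D i.1) ^ k • ((∑ l, (show Γ(X, D i.1) from (φ l).app (D i.1) ((c i.1).b i.2.down)) •
      M.presheaf.map (homOfLE (le_top : D i.1 ≤ ⊤)).op (s l)) - rs a (D i.1) ^ (N₁ + N₂ + N₃) • (c i.1).b i.2.down) = 0)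
    fun i => by
    refine kill a M (D i.1) (hc i.1) _ ?_
    obtain ⟨j, ⟨m⟩⟩ := i
    change M.presheaf.map (homOfLE inf_le_left).op ((∑ l, (show Γ(X, D j) from (φ l).app (D j) ((c j).b m)) •
      M.presheaf.map (homOfLE (le_top : D j ≤ ⊤)).op (s l)) - rs a (D j) ^ (N₁ + N₂ + N₃) • (c j).b m) = 0
    have hD' : D j ⊓ X.basicOpen a ≤ D j := inf_le_left
    have hE : D j ⊓ X.basicOpen a ≤ X.basicOpen a := inf_le_right
    rw [map_sub, sub_eq_zero, map_sum, map_smul', map_pow, rs_map]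
    conv_rhs => rw [c0.eq _ hE (M.presheaf.map (homOfLE hD').op ((c j).b m))]
    rw [Finset.smul_sum]
    refine Finset.sum_congr rfl fun l _ => ?_
    have hs' : M.presheaf.map (homOfLE (le_top : D j ⊓ X.basicOpen a ≤ ⊤)).op (s l) =
        rs a (D j ⊓ X.basicOpen a) ^ N₃ • M.presheaf.map (homOfLE hE).op (c0.b l) := by
      have h := congrArg (M.presheaf.map (homOfLE hE).op) (hs l)
      simpa only [map_map', map_smul', map_pow, rs_map, homOfLE_comp] using h
    have hsl : ∀ {W : X.Opens} (i : W ≤ D j), X.presheaf.map (homOfLE i).op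
        (show Γ(X, D j) from (φ l).app (D j) ((c j).b m)) = (φ l).app W (M.presheaf.map (homOfLE i).op ((c j).b m)) :=
      fun i => (app_map (φ l) (homOfLE i) ((c j).b m)).symm
    have key : (show Γ(X, D j ⊓ X.basicOpen a) from (φ l).app (D j ⊓ X.basicOpen a)
        (M.presheaf.map (homOfLE hD').op ((c j).b m))) =
        rs a _ ^ (N₂ + N₁) * c0.π _ hE (M.presheaf.map (homOfLE hD').op ((c j).b m)) l := by
      refine (hφ l j _ hD' _).trans ?_
      have hb : ∀ m', X.presheaf.map (homOfLE hD').op (rs a (D j) ^ N₂ * β j m' l) =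
          rs a _ ^ (N₂ + N₁) * y j m' l := fun m' => by
        rw [map_mul, map_pow, rs_map, hβ, pow_add, mul_assoc]
      simp only [hb, mul_left_comm _ (rs a _ ^ (N₂ + N₁)), ← Finset.mul_sum]
      refine congrArg _ ?_
      conv_rhs => rw [(c j).eq _ hD' (M.presheaf.map (homOfLE hD').op ((c j).b m))]
      simp only [y, c0.π_sum, c0.π_smul]
    rw [map_smul', map_map', homOfLE_comp, hs', hsl hD', ← mul_smul, ← mul_smul]
    refine congrArg (· • _) ?_
    refine (congrArg (· * _) key).trans ?_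
    ring
  refine ⟨N₄ + (N₁ + N₂ + N₃), φ, fun l => a ^ N₄ • s l, fun W t => ?_⟩
  refine TopCat.Sheaf.eq_of_locally_eq' ((toAbF X).obj M : TopCat.Sheaf AddCommGrpCat _)
    (fun j => W ⊓ D j) W (fun j => homOfLE inf_le_left)
    (fun x hx => by
      obtain ⟨j, hj⟩ := Opens.mem_iSup.1 (hD.ge (Opens.mem_top x))
      exact Opens.mem_iSup.2 ⟨j, hx, hj⟩) _ _ fun j => ?_
  have hWj : W ⊓ D j ≤ D j := inf_le_right
  let G : (V : X.Opens) → Γ(M, V) →+ Γ(M, V) := fun V => AddMonoidHom.mk' (fun t =>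
      rs a V ^ N₄ • ((∑ l, (show Γ(X, V) from (φ l).app V t) •
        M.presheaf.map (homOfLE (le_top : V ≤ ⊤)).op (s l)) - rs a V ^ (N₁ + N₂ + N₃) • t)) fun t t' => by
    have : ∀ l, (show Γ(X, V) from (φ l).app V (t + t')) =
        (show Γ(X, V) from (φ l).app V t) + (show Γ(X, V) from (φ l).app V t') := fun l => map_add _ t t'
    simp only [this, add_smul, Finset.sum_add_distrib, smul_add, smul_sub, Finset.smul_sum]
    abel
  have hGs : ∀ V (r : Γ(X, V)) t, G V (r • t) = r • G V t := fun V r t => by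
    have : ∀ l, (show Γ(X, V) from (φ l).app V (r • t)) = r * (show Γ(X, V) from (φ l).app V t) :=
      fun l => app_smul (φ l) V r t
    simp only [G, AddMonoidHom.mk'_apply, this, mul_smul, ← Finset.smul_sum, smul_sub, smul_comm _ r]
  have hGm : ∀ {V U : X.Opens} (i : U ≤ V) t, M.presheaf.map (homOfLE i).op (G V t) =
      G U (M.presheaf.map (homOfLE i).op t) := fun {V U} i t => by
    have : ∀ l, X.presheaf.map (homOfLE i).op (show Γ(X, V) from (φ l).app V t) =
        (φ l).app U (M.presheaf.map (homOfLE i).op t) := fun l => (app_map (φ l) (homOfLE i) t).symm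
    simp only [G, AddMonoidHom.mk'_apply, map_smul', map_sub, map_sum, map_pow, rs_map, map_map', homOfLE_comp, this]
  have h0 : G (W ⊓ D j) (M.presheaf.map (homOfLE inf_le_left).op t) = 0 := by
    rw [(c j).eq _ hWj (M.presheaf.map (homOfLE inf_le_left).op t), map_sum]
    refine Finset.sum_eq_zero fun m _ => ?_
    rw [hGs, ← hGm hWj, show G (D j) ((c j).b m) = 0 from hN₄ ⟨j, ⟨m⟩⟩, map_zero, smul_zero]
  rw [← hGm inf_le_left t] at h0
  refine sub_eq_zero.1 (Eq.trans ?_ h0)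
  refine (map_sub (M.presheaf.map (homOfLE (inf_le_left : W ⊓ D j ≤ W)).op).hom _ _).symm.trans (congrArg _ ?_)
  simp only [G, AddMonoidHom.mk'_apply, map_smul', map_pow, smul_sub, Finset.smul_sum, ← mul_smul, pow_add]
  refine congrArg₂ (· - ·) (Finset.sum_congr rfl fun l _ => ?_) rfl
  exact congrArg (· • _) (mul_comm _ _)

end clear

end FinLFAnn
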